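import Mathlib

/-!
# The flag of successive fixed spaces of a `p`-group of matrices
-/

set_option autoImplicit false

namespace CfsgLib.KnownA.FlagFix

open Matrix

variable {F : Type*} [Field F] {n : ℕ}

local notation "SLn" => Matrix.SpecialLinearGroup (Fin n) F

/-- The vectors fixed modulo `W`. -/
def fixMod (U : Subgroup SLn) (W : Submodule F (Fin n → F)) : Submodule F (Fin n → F) where
  carrier := {v | ∀ u ∈ U, (u : Matrix (Fin n) (Fin n) F).mulVec v - v ∈ W}
  add_mem' := fun {a b} ha hb u hu => by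
    rw [Matrix.mulVec_add, add_sub_add_comm]
    exact W.add_mem (ha u hu) (hb u hu)
  zero_mem' := fun u _ => by simp
  smul_mem' := fun c v hv u hu => by
    rw [Matrix.mulVec_smul, ← smul_sub]
    exact W.smul_mem c (hv u hu)

theorem mem_fixMod {U : Subgroup SLn} {W : Submodule F (Fin n → F)} {v : Fin n → F} :
    v ∈ fixMod U W ↔ ∀ u ∈ U, (u : Matrix (Fin n) (Fin n) F).mulVec v - v ∈ W := Iff.rfl

theorem le_fixMod {U : Subgroup SLn} {W : Submodule F (Fin n → F)}
    (h : ∀ u ∈ U, ∀ v ∈ W, (u : Matrix (Fin n) (Fin n) F).mulVec v ∈ W) : W ≤ fixMod U W :=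
  fun v hv u hu => W.sub_mem (h u hu v hv) hv

theorem stable_fixMod {U : Subgroup SLn} {W : Submodule F (Fin n → F)} {g : SLn}
    (hg : g ∈ Subgroup.normalizer (U : Set SLn))
    (h : ∀ v ∈ W, (g : Matrix (Fin n) (Fin n) F).mulVec v ∈ W) :
    ∀ v ∈ fixMod U W, (g : Matrix (Fin n) (Fin n) F).mulVec v ∈ fixMod U W := by
  intro v hv u hu
  have hu' : g⁻¹ * u * g ∈ U := by
    have := (Subgroup.mem_normalizer_iff.1 (Subgroup.inv_mem _ hg) u).1 hu
    simpa using this
  have e : (u : Matrix (Fin n) (Fin n) F) * (g : Matrix (Fin n) (Fin n) F) =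
      (g : Matrix (Fin n) (Fin n) F) * ((g⁻¹ * u * g : SLn) : Matrix (Fin n) (Fin n) F) := by
    rw [← Matrix.SpecialLinearGroup.coe_mul, ← Matrix.SpecialLinearGroup.coe_mul]
    congr 1
    rw [← mul_assoc, ← mul_assoc, mul_inv_cancel, one_mul]
  rw [Matrix.mulVec_mulVec, e, ← Matrix.mulVec_mulVec, ← Matrix.mulVec_sub]
  exact h _ (hv _ hu')

theorem map_eq_of_stable [Finite F] {W : Submodule F (Fin n → F)} {g : SLn}
    (h : ∀ v ∈ W, (g : Matrix (Fin n) (Fin n) F).mulVec v ∈ W) :
    W.map (Matrix.mulVecLin (g : Matrix (Fin n) (Fin n) F)) = W := by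
  refine Submodule.eq_of_le_of_finrank_eq ?_ ?_
  · rintro _ ⟨v, hv, rfl⟩
    exact h v hv
  · refine (Submodule.equivMapOfInjective _ ?_ W).finrank_eq.symm
    intro a b hab
    have := congrArg ((g⁻¹ : SLn) : Matrix (Fin n) (Fin n) F).mulVec hab
    simp only [Matrix.mulVecLin_apply, Matrix.mulVec_mulVec, ← Matrix.SpecialLinearGroup.coe_mul,
      inv_mul_cancel, Matrix.SpecialLinearGroup.coe_one, Matrix.one_mulVec] at this
    exact this

theorem exists_flag [Fintype F] (p : ℕ) [Fact p.Prime] [CharP F p] (U : Subgroup SLn)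
    (hU : IsPGroup p U) (hne : U ≠ ⊥) :
    ∃ (k : ℕ) (V : Fin (k + 2) → Submodule F (Fin n → F)), 1 ≤ k ∧ StrictMono V ∧ V 0 = ⊥ ∧
      V (Fin.last (k + 1)) = ⊤ ∧
      (∀ g ∈ Subgroup.normalizer (U : Set SLn), ∀ i,
        (V i).map (Matrix.mulVecLin (g : Matrix (Fin n) (Fin n) F)) = V i) ∧
      (∀ u ∈ U, ∀ i : Fin (k + 1), ∀ v ∈ V i.succ,
        (u : Matrix (Fin n) (Fin n) F).mulVec v - v ∈ V (Fin.castSucc i)) := by
  classical
  let W : ℕ → Submodule F (Fin n → F) := fun i => (fixMod U)^[i] ⊥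
  have hW : ∀ i, W (i + 1) = fixMod U (W i) := fun i => Function.iterate_succ_apply' _ _ _
  have hstab : ∀ i, ∀ g ∈ Subgroup.normalizer (U : Set SLn), ∀ v ∈ W i,
      (g : Matrix (Fin n) (Fin n) F).mulVec v ∈ W i := by
    intro i
    induction i with
    | zero => intro g _ v hv; simp [W] at hv ⊢; simp [hv]
    | succ i ih => intro g hg v hv; rw [hW] at hv ⊢; exact stable_fixMod hg (ih g hg) v hv
  have hU' : ∀ i, ∀ u ∈ U, ∀ v ∈ W i, (u : Matrix (Fin n) (Fin n) F).mulVec v ∈ W i :=
    fun i u hu => hstab i u (Subgroup.le_normalizer hu)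
  have hgrow : ∀ i, W i ≠ ⊤ → W i < W (i + 1) := by
    intro i htop
    rw [hW]
    refine lt_of_le_of_ne (le_fixMod (hU' i)) fun he => ?_
    let T : U → ((Fin n → F) ⧸ W i) →ₗ[F] ((Fin n → F) ⧸ W i) := fun u =>
      (W i).mapQ (W i) (Matrix.mulVecLin ((u : SLn) : Matrix (Fin n) (Fin n) F))
        (fun v hv => hU' i _ u.2 v hv)
    let act : MulAction U ((Fin n → F) ⧸ W i) :=
      { smul := fun u x => T u x
        one_smul := fun x => by
          obtain ⟨v, rfl⟩ := Submodule.Quotient.mk_surjective _ x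
          show Submodule.Quotient.mk ((Matrix.mulVecLin _) v) = _
          simp
        mul_smul := fun a b x => by
          obtain ⟨v, rfl⟩ := Submodule.Quotient.mk_surjective _ x
          show Submodule.Quotient.mk ((Matrix.mulVecLin _) v) =
            Submodule.Quotient.mk ((Matrix.mulVecLin _) ((Matrix.mulVecLin _) v))
          simp }
    have hfin : Finite ((Fin n → F) ⧸ W i) := inferInstance
    have hnt : Nontrivial ((Fin n → F) ⧸ W i) := Submodule.Quotient.nontrivial_iff.2 htop
    have hdvd : p ∣ Nat.card ((Fin n → F) ⧸ W i) := by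
      rw [Module.natCard_eq_pow_finrank (K := F)]
      obtain ⟨e, -, he'⟩ := FiniteField.card F p
      rw [Nat.card_eq_fintype_card, he', ← pow_mul]
      exact dvd_pow_self p (Nat.mul_ne_zero e.ne_zero Module.finrank_pos.ne')
    have h0 : (0 : (Fin n → F) ⧸ W i) ∈ MulAction.fixedPoints U ((Fin n → F) ⧸ W i) :=
      fun u => map_zero (T u)
    obtain ⟨b, hb, hb0⟩ := hU.exists_fixed_point_of_prime_dvd_card_of_fixed_point _ hdvd h0
    obtain ⟨v, rfl⟩ := Submodule.Quotient.mk_surjective _ b
    apply hb0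
    symm
    rw [Submodule.Quotient.mk_eq_zero, he]
    intro u hu
    have h : Submodule.Quotient.mk ((Matrix.mulVecLin (u : Matrix (Fin n) (Fin n) F)) v) =
        (Submodule.Quotient.mk v : (Fin n → F) ⧸ W i) := hb ⟨u, hu⟩
    rw [Submodule.Quotient.eq] at h
    simpa using h
  have hex : ∃ m, W m = ⊤ := by
    by_contra hc
    push Not at hc
    have : ∀ i, i ≤ Module.finrank F (W i) := by
      intro i
      induction i with
      | zero => exact Nat.zero_le _
      | succ i ih => have := Submodule.finrank_lt_finrank_of_lt (hgrow i (hc i)); omega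
    have h := this (Module.finrank F (Fin n → F) + 1)
    have h' := Submodule.finrank_le (W (Module.finrank F (Fin n → F) + 1))
    omega
  set m := Nat.find hex with hm
  have hlt : ∀ i < m, W i ≠ ⊤ := fun i hi => Nat.find_min hex hi
  have hm2 : 2 ≤ m := by
    by_contra hc
    apply hne
    have h1 : W 1 = ⊤ := by
      have hmem := Nat.find_spec hex
      rcases Nat.lt_or_ge 0 m with h | h
      · rw [← hm, show m = 1 by omega] at hmem
        exact hmem
      · rw [← hm, show m = 0 by omega] at hmem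
        rw [hW, hmem, eq_top_iff]
        intro v _ u _
        exact Submodule.mem_top
    rw [eq_bot_iff]
    intro u hu
    rw [Subgroup.mem_bot]
    apply Subtype.ext
    refine Matrix.ext_of_mulVec_single fun j => ?_
    have h := (mem_fixMod.1 (show (Pi.single j 1 : Fin n → F) ∈ fixMod U (W 0) by
      rw [← hW, h1]; exact Submodule.mem_top)) u hu
    simp only [W, Function.iterate_zero, id_eq, Submodule.mem_bot, sub_eq_zero] at h
    rw [h]
    simp
    ext l
    simp [Pi.single_apply, Matrix.one_apply]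
  obtain ⟨k, hk⟩ : ∃ k, m = k + 1 := ⟨m - 1, by omega⟩
  refine ⟨k, fun i => W (i : ℕ), by omega, Fin.strictMono_iff_lt_succ.2 fun i => ?_, rfl,
    ?_, fun g hg i => map_eq_of_stable (hstab _ g hg), fun u hu i v hv => ?_⟩
  · rw [Fin.val_castSucc, Fin.val_succ]
    exact hgrow _ (hlt _ (by have := i.isLt; omega))
  · simp only [Fin.val_last, ← hk]
    exact Nat.find_spec hex
  · simp only [Fin.val_succ, Fin.val_castSucc] at hv ⊢
    rw [hW] at hv
    exact hv u hu

end CfsgLib.KnownA.FlagFix
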